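import Mathlib.LinearAlgebra.LinearIndependent.BaseChange
import Mathlib.LinearAlgebra.Dimension.Finrank
import Mathlib.RingTheory.Finiteness.Basic
import Mathlib.LinearAlgebra.FiniteDimensional.Basic
import Mathlib.Topology.Instances.Real.Lemmas
import Mathlib.Topology.Algebra.Monoid
import Mathlib.Algebra.Order.BigOperators.Group.Finset
import Mathlib.Tactic.Linarith
import Mathlib.Tactic.Positivity
import Mathlib.Tactic.FieldSimp
import Mathlib.Tactic.Module
import Mathlib.Algebra.Module.Rat
import Mathlib.Algebra.Algebra.Rat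
import Mathlib.Data.Rat.Cast.CharZero
import Mathlib.Algebra.Field.Rat
import Mathlib.Tactic.FunProp

/-!
# Rational polyhedral cones

A real nonnegative solution of a system of linear equations with integer coefficients is a positive
combination of linearly independent nonnegative integer solutions.
-/

namespace Groth.Agent.L13.Fan

open Finset

/-- Carathéodory's theorem for cones. -/
theorem exists_linearIndepOn_pos_combination {E : Type*} [AddCommGroup E] [Module ℝ E]
    {α : Type*} [DecidableEq α] (g : α → E) (s : Finset α) (c : α → ℝ) (hc : ∀ a ∈ s, 0 ≤ c a) :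
    ∃ (t : Finset α) (d : α → ℝ), t ⊆ s ∧ (∀ a ∈ t, 0 < d a) ∧
      LinearIndepOn ℝ g (t : Set α) ∧ ∑ a ∈ t, d a • g a = ∑ a ∈ s, c a • g a := by
  induction s using Finset.strongInduction generalizing c with
  | _ s ih =>
    by_cases hz : ∃ a ∈ s, c a = 0
    · obtain ⟨a, ha, h0⟩ := hz
      obtain ⟨t, d, hts, hd, hli, he⟩ := ih (s.erase a) (erase_ssubset ha) c
        (fun b hb => hc b (mem_of_mem_erase hb))
      refine ⟨t, d, hts.trans (erase_subset _ _), hd, hli, ?_⟩
      rw [he, Finset.sum_erase]
      simp [h0]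
    · push Not at hz
      have hpos : ∀ a ∈ s, 0 < c a := fun a ha => lt_of_le_of_ne (hc a ha) (hz a ha).symm
      by_cases hli : LinearIndepOn ℝ g (s : Set α)
      · exact ⟨s, c, subset_rfl, hpos, hli, rfl⟩
      · rw [linearIndepOn_finset_iff] at hli
        push Not at hli
        obtain ⟨f₀, hf₀, a₀, ha₀, hne⟩ := hli
        obtain ⟨f, hf, hex⟩ : ∃ f : α → ℝ, ∑ a ∈ s, f a • g a = 0 ∧ ∃ a ∈ s, 0 < f a := by
          rcases lt_or_gt_of_ne hne with h | h
          · exact ⟨fun a => -f₀ a, by simp [neg_smul, Finset.sum_neg_distrib, hf₀], a₀, ha₀,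
              by linarith⟩
          · exact ⟨f₀, hf₀, a₀, ha₀, h⟩
        obtain ⟨b, hb, hmin⟩ := (s.filter fun a => 0 < f a).exists_min_image (fun a => c a / f a)
          (by obtain ⟨a, ha, h⟩ := hex; exact ⟨a, Finset.mem_filter.mpr ⟨ha, h⟩⟩)
        rw [Finset.mem_filter] at hb
        set r := c b / f b with hr
        have hr0 : 0 < r := div_pos (hpos b hb.1) hb.2
        obtain ⟨t, d, hts, hd, hli', he⟩ := ih (s.erase b) (erase_ssubset hb.1)
          (fun a => c a - r * f a) (fun a ha => by
            have ha' := mem_of_mem_erase ha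
            rcases le_or_gt (f a) 0 with h | h
            · nlinarith [hpos a ha']
            · have := hmin a (Finset.mem_filter.mpr ⟨ha', h⟩)
              rw [le_div_iff₀ h] at this
              linarith)
        refine ⟨t, d, hts.trans (erase_subset _ _), hd, hli', ?_⟩
        rw [he, Finset.sum_erase]
        · simp only [sub_smul, mul_smul, Finset.sum_sub_distrib, ← Finset.smul_sum, hf, smul_zero,
            sub_zero]
        · simp [hr, div_mul_cancel₀ (c b) hb.2.ne']

/-- Clearing denominators of a rational vector. -/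
theorem exists_int_multiple {ι : Type*} [Fintype ι] (x : ι → ℚ) :
    ∃ (N : ℕ) (z : ι → ℤ), 0 < N ∧ ∀ i, (z i : ℚ) = N * x i := by
  classical
  refine ⟨∏ i, (x i).den, fun i => (x i).num * ∏ j ∈ univ.erase i, ((x j).den : ℤ),
    Finset.prod_pos fun i _ => (x i).den_pos, fun i => ?_⟩
  rw [← Finset.mul_prod_erase univ _ (mem_univ i)]
  push_cast
  rw [← Rat.mul_den_eq_num]
  ring

/-- A nonnegative real solution of a homogeneous system with integer coefficients is a nonnegative
combination of finitely many nonnegative integer solutions. -/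
theorem exists_int_gens {ι κ : Type*} [Fintype ι] (a : κ → ι → ℤ) (p : ι → ℝ) (hp : ∀ i, 0 ≤ p i)
    (hker : ∀ k, ∑ i, (a k i : ℝ) * p i = 0) :
    ∃ (m : ℕ) (g : Fin m → ι → ℤ) (c : Fin m → ℝ), (∀ l i, 0 ≤ g l i) ∧
      (∀ l k, ∑ i, a k i * g l i = 0) ∧ (∀ l, 0 ≤ c l) ∧
      p = ∑ l, c l • fun i => (g l i : ℝ) := by
  classical
  -- rational coordinates of `p` with respect to a `ℚ`-basis of the span of its entries
  let V : Submodule ℚ ℝ := Submodule.span ℚ (Set.range p)
  have : FiniteDimensional ℚ V := FiniteDimensional.span_of_finite ℚ (Set.finite_range p)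
  let bV := Module.finBasis ℚ V
  set d := Module.finrank ℚ V
  let θ : Fin d → ℝ := fun m => bV m
  let u : Fin d → ι → ℚ := fun m i => bV.repr ⟨p i, Submodule.subset_span ⟨i, rfl⟩⟩ m
  have hpu : ∀ i, p i = ∑ m, θ m * u m i := fun i => by
    conv_lhs => rw [show p i = ((⟨p i, Submodule.subset_span ⟨i, rfl⟩⟩ : V) : ℝ) from rfl,
      ← bV.sum_repr ⟨p i, Submodule.subset_span ⟨i, rfl⟩⟩]
    simp only [AddSubmonoidClass.coe_finset_sum, SetLike.val_smul, Rat.smul_def, θ, u]
    exact Finset.sum_congr rfl fun m _ => mul_comm _ _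
  have hu : ∀ m k, ∑ i, (a k i : ℚ) * u m i = 0 := fun m k => by
    have h0 : (∑ i, (a k i : ℚ) • (⟨p i, Submodule.subset_span ⟨i, rfl⟩⟩ : V)) = 0 := by
      ext
      simpa [Rat.smul_def] using hker k
    have := congr_arg (fun v => bV.repr v m) h0
    simp only [map_sum, map_smul, Finsupp.coe_finset_sum, Finset.sum_apply, Finsupp.smul_apply,
      smul_eq_mul, map_zero, Finsupp.coe_zero, Pi.zero_apply] at this
    exact this
  have hu0 : ∀ m i, p i = 0 → u m i = 0 := fun m i hi => by
    have : (⟨p i, Submodule.subset_span ⟨i, rfl⟩⟩ : V) = 0 := Subtype.ext hi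
    simp [u, this]
  obtain ⟨M, hM⟩ := exists_nat_ge (2 * ∑ m, ∑ i, |(u m i : ℝ)| / p i)
  -- a rational approximation `r` of `θ`
  let O : Set (Fin d → ℝ) :=
    {r | (∀ i, 0 < p i → p i / 2 < ∑ m, r m * u m i) ∧ (M : ℝ) * ∑ m, |θ m - r m| < 1}
  have hO : IsOpen O := by
    refine IsOpen.inter ?_ (isOpen_lt (f := fun r : Fin d → ℝ => (M : ℝ) * ∑ m, |θ m - r m|)
      (by fun_prop) continuous_const)
    show IsOpen {r : Fin d → ℝ | ∀ i, 0 < p i → p i / 2 < ∑ m, r m * (u m i : ℝ)}
    rw [show {r : Fin d → ℝ | ∀ i, 0 < p i → p i / 2 < ∑ m, r m * (u m i : ℝ)} =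
      ⋂ i, ⋂ (_ : 0 < p i), {r : Fin d → ℝ | p i / 2 < ∑ m, r m * (u m i : ℝ)} by
        ext; simp]
    exact isOpen_iInter_of_finite fun i => isOpen_iInter_of_finite fun _ =>
      isOpen_lt (f := fun _ : Fin d → ℝ => p i / 2) (g := fun r : Fin d → ℝ => ∑ m, r m * (u m i : ℝ))
        continuous_const (by fun_prop)
  have hθ : θ ∈ O := ⟨fun i hi => by rw [← hpu i]; linarith, by simp⟩
  obtain ⟨r, hr⟩ := (DenseRange.piMap fun _ : Fin d => Rat.denseRange_cast (𝕜 := ℝ)).exists_mem_open
    hO ⟨θ, hθ⟩
  obtain ⟨hr1, hr2⟩ := hr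
  simp only [Pi.map_apply] at hr1 hr2
  let q : ι → ℚ := fun i => ∑ m, r m * u m i
  have hq : ∀ i, ((q i : ℝ)) = ∑ m, (r m : ℝ) * u m i := fun i => by simp [q]
  have hq0 : ∀ i, 0 ≤ q i ∧ ∀ m, |u m i| ≤ M * q i := fun i => by
    rcases (hp i).eq_or_lt with h | h
    · have : ∀ m, u m i = 0 := fun m => hu0 m i h.symm
      simp [q, this]
    · have h1 : p i / 2 < (q i : ℝ) := by
        rw [hq]; exact hr1 i h
      refine ⟨by exact_mod_cast le_trans (by linarith : (0 : ℝ) ≤ p i / 2) h1.le, fun m => ?_⟩
      have h2 : |(u m i : ℝ)| / p i ≤ ∑ m, ∑ i, |(u m i : ℝ)| / p i :=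
        le_trans (Finset.single_le_sum (f := fun i => |(u m i : ℝ)| / p i)
            (fun j _ => div_nonneg (abs_nonneg _) (hp j)) (mem_univ i))
          (Finset.single_le_sum (f := fun m => ∑ i, |(u m i : ℝ)| / p i)
            (fun j _ => Finset.sum_nonneg fun i _ => div_nonneg (abs_nonneg _) (hp i)) (mem_univ m))
      have h3 : |(u m i : ℝ)| ≤ (M / 2 : ℝ) * p i := by
        rw [← div_le_iff₀ h]; linarith
      have h4 : |(u m i : ℝ)| ≤ (M : ℝ) * q i := by
        have : (0 : ℝ) ≤ M := Nat.cast_nonneg M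
        nlinarith
      exact_mod_cast h4
  -- the generators: `q` and `M q ± u m`
  let G : Fin (1 + (d + d)) → ι → ℚ := Fin.append (fun _ => q)
    (Fin.append (fun m i => M * q i + u m i) (fun m i => M * q i - u m i))
  let C : Fin (1 + (d + d)) → ℝ := Fin.append (fun _ => 1 - M * ∑ m, |θ m - r m|)
    (Fin.append (fun m => max (θ m - r m) 0) (fun m => max (-(θ m - r m)) 0))
  have hG0 : ∀ l i, 0 ≤ G l i := by
    intro l i
    obtain ⟨h1, h2⟩ := hq0 i
    induction l using Fin.addCases with
    | left l => simpa [G] using h1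
    | right l =>
      induction l using Fin.addCases with
      | left l => simp only [G, Fin.append_right, Fin.append_left]; linarith [abs_le.mp (h2 l)]
      | right l => simp only [G, Fin.append_right]; linarith [abs_le.mp (h2 l)]
  have hqk : ∀ k, ∑ i, (a k i : ℚ) * q i = 0 := fun k => by
    simp only [q, Finset.mul_sum]
    rw [Finset.sum_comm]
    refine Finset.sum_eq_zero fun m _ => ?_
    calc ∑ i, (a k i : ℚ) * (r m * u m i) = r m * ∑ i, (a k i : ℚ) * u m i := by
          rw [Finset.mul_sum]; exact Finset.sum_congr rfl fun i _ => by ring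
      _ = 0 := by rw [hu]; ring
  have hGk : ∀ l k, ∑ i, (a k i : ℚ) * G l i = 0 := by
    intro l k
    induction l using Fin.addCases with
    | left l => simpa [G] using hqk k
    | right l =>
      induction l using Fin.addCases with
      | left l =>
        simp only [G, Fin.append_right, Fin.append_left, mul_add, Finset.sum_add_distrib, hu,
          mul_left_comm _ (M : ℚ), ← Finset.mul_sum, hqk, mul_zero, add_zero]
      | right l =>
        simp only [G, Fin.append_right, mul_sub, Finset.sum_sub_distrib, hu,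
          mul_left_comm _ (M : ℚ), ← Finset.mul_sum, hqk, mul_zero, sub_zero]
  have hC0 : ∀ l, 0 ≤ C l := by
    intro l
    induction l using Fin.addCases with
    | left l => simp only [C, Fin.append_left]; linarith
    | right l =>
      induction l using Fin.addCases with
      | left l => simp [C]
      | right l => simp only [C, Fin.append_right]; exact le_max_right _ _
  have hsum : ∀ i, p i = ∑ l, C l * (G l i : ℝ) := fun i => by
    simp only [Fin.sum_univ_add, C, G, Fin.append_left, Fin.append_right, Finset.univ_unique,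
      Finset.sum_singleton]
    push_cast
    have h : ∀ m, max (θ m - r m) 0 * ((M : ℝ) * q i + u m i) +
        max (-(θ m - r m)) 0 * ((M : ℝ) * q i - u m i) =
        |θ m - r m| * ((M : ℝ) * q i) + θ m * u m i - r m * u m i := fun m => by
      rcases le_total 0 (θ m - r m) with h | h
      · rw [max_eq_left h, max_eq_right (by linarith), abs_of_nonneg h]; ring
      · rw [max_eq_right h, max_eq_left (by linarith), abs_of_nonpos h]; ring
    rw [← Finset.sum_add_distrib, Finset.sum_congr rfl fun m _ => h m]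
    rw [Finset.sum_sub_distrib, Finset.sum_add_distrib, ← Finset.sum_mul, ← hpu, ← hq]
    ring
  -- clear denominators
  choose N z hN hz using fun l => exists_int_multiple (G l)
  refine ⟨_, z, fun l => C l / N l, fun l i => ?_, fun l k => ?_,
    fun l => div_nonneg (hC0 l) (Nat.cast_nonneg _), funext fun i => ?_⟩
  · have : (0 : ℚ) ≤ z l i := by rw [hz]; exact mul_nonneg (Nat.cast_nonneg _) (hG0 l i)
    exact_mod_cast this
  · have : ((∑ i, a k i * z l i : ℤ) : ℚ) = 0 := by
      push_cast
      simp only [hz, mul_left_comm _ (N l : ℚ), ← Finset.mul_sum, hGk, mul_zero]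
    exact_mod_cast this
  · rw [hsum i, Finset.sum_apply]
    refine Finset.sum_congr rfl fun l _ => ?_
    have h := congr_arg (fun x : ℚ => (x : ℝ)) (hz l i)
    push_cast at h
    have : (N l : ℝ) ≠ 0 := by exact_mod_cast (hN l).ne'
    rw [Pi.smul_apply, smul_eq_mul, h]
    field_simp

/-- A nonnegative real solution of a homogeneous system with integer coefficients is a positive
combination of linearly independent nonnegative integer solutions. -/
theorem exists_indep_int_gens {ι κ : Type*} [Fintype ι] (a : κ → ι → ℤ) (p : ι → ℝ)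
    (hp : ∀ i, 0 ≤ p i) (hker : ∀ k, ∑ i, (a k i : ℝ) * p i = 0) :
    ∃ (j : ℕ) (g : Fin j → ι → ℤ) (w : Fin j → ℝ), (∀ l i, 0 ≤ g l i) ∧
      (∀ l k, ∑ i, a k i * g l i = 0) ∧ (∀ l, 0 < w l) ∧ LinearIndependent ℤ g ∧
      p = ∑ l, w l • fun i => (g l i : ℝ) := by
  classical
  obtain ⟨m, g, c, hg0, hgk, hc, he⟩ := exists_int_gens a p hp hker
  obtain ⟨t, e, -, he0, hli, hte⟩ := exists_linearIndepOn_pos_combination
    (fun l : Fin m => fun i => (g l i : ℝ)) univ c (fun l _ => hc l)
  refine ⟨t.card, fun l => g (t.equivFin.symm l), fun l => e (t.equivFin.symm l),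
    fun l i => hg0 _ i, fun l k => hgk _ k, fun l => he0 _ (t.equivFin.symm l).2, ?_, ?_⟩
  · have h1 : LinearIndependent ℝ (fun l : Fin t.card => algebraMap ℤ ℝ ∘ g (t.equivFin.symm l)) := by
      exact (LinearIndependent.comp hli _ t.equivFin.symm.injective :)
    exact linearIndependent_algebraMap_comp_iff.mp h1
  · rw [he, ← hte, ← Finset.sum_coe_sort t,
      ← t.equivFin.symm.sum_comp]

end Groth.Agent.L13.Fan
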