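import Groth.Agent.L13.Fan.Real

/-!
# Equality of points in the projective realization of a fan, and bounded pullbacks
-/

open CategoryTheory Opposite Topology Instab

universe u

namespace Groth.Agent.L13.Fan

variable {F F' G : Instab.Fan.{u}}

theorem mk_map {k n : ICone} (φ : k ⟶ n) (ξ : F.obj (op n)) (v : Fan.Orth k) :
    Fan.P.mk (F.map φ.op ξ) v = Fan.P.mk ξ (orthMap φ v) :=
  Quot.sound (Fan.Rel.glue φ ξ v (orthMap φ v) 1 one_pos (by rw [one_smul, orthMap_val]))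

theorem mk_sameRay {n : ICone} (ξ : F.obj (op n)) {v w : Fan.Orth n} (h : SameRay w v) :
    Fan.P.mk ξ v = Fan.P.mk ξ w := by
  obtain ⟨c, hc, he⟩ := h
  have e : F.map (𝟙 n).op ξ = ξ := by simp
  have := Quot.sound (Fan.Rel.glue (𝟙 n) ξ v w c hc (by rw [← orthMap_val, orthMap_id, he]))
  exact (congrArg (fun η => Fan.P.mk η v) e).symm.trans this

theorem mk_normalize {n : ICone} (ξ : F.obj (op n)) (v : Fan.Orth n) :
    Fan.P.mk ξ (normalize v) = Fan.P.mk ξ v :=
  mk_sameRay ξ (sameRay_normalize v).symm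

theorem exists_mk (x : Fan.P F) :
    ∃ (n : ICone) (ξ : F.obj (op n)) (v : Fan.Orth n), x = Fan.P.mk ξ v := by
  obtain ⟨⟨⟨n, ξ⟩, v⟩, rfl⟩ := Quot.exists_rep x
  exact ⟨n, ξ, v, rfl⟩

theorem map_mk {f : F ⟶ G} {n : ICone} (ξ : F.obj (op n)) (v : Fan.Orth n) :
    Fan.P.map f (Fan.P.mk ξ v) = Fan.P.mk (f.app _ ξ) v := rfl

theorem map_map {f : F ⟶ G} {H : Instab.Fan.{u}} (g : G ⟶ H) (x : Fan.P F) :
    Fan.P.map g (Fan.P.map f x) = Fan.P.map (f ≫ g) x := by
  obtain ⟨n, ξ, v, rfl⟩ := exists_mk x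
  rfl

theorem map_id' (x : Fan.P F) : Fan.P.map (𝟙 F) x = x := by
  obtain ⟨n, ξ, v, rfl⟩ := exists_mk x
  rfl

/-- Two points lie in a common sub-cone. -/
def Common (p q : Fan.Pt F) : Prop :=
  ∃ (k : ICone) (α : k ⟶ p.1.1) (β : k ⟶ q.1.1) (y : Fan.Orth k),
    F.map α.op p.1.2 = F.map β.op q.1.2 ∧ SameRay p.2 (orthMap α y) ∧ SameRay q.2 (orthMap β y)

theorem Common.refl (p : Fan.Pt F) : Common p p :=
  ⟨p.1.1, 𝟙 _, 𝟙 _, p.2, rfl, by rw [orthMap_id]; exact .refl _, by rw [orthMap_id]; exact .refl _⟩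

theorem Common.symm {p q : Fan.Pt F} (h : Common p q) : Common q p := by
  obtain ⟨k, α, β, y, he, h1, h2⟩ := h
  exact ⟨k, β, α, y, he.symm, h2, h1⟩

theorem Common.of_rel {p q : Fan.Pt F} (h : Fan.Rel F p q) : Common p q := by
  obtain ⟨φ, ξ, v, w, c, hc, he⟩ := h
  refine ⟨_, 𝟙 _, φ, v, by simp, by rw [orthMap_id]; exact .refl _, c, hc, ?_⟩
  rw [orthMap_val]
  exact he

/-- Two cone morphisms into the same cone whose images share a ray have a common sub-cone. -/
theorem exists_common_subcone {k l n : ICone} (φ : k ⟶ n) (ψ : l ⟶ n) (y : Fan.Orth k)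
    (z : Fan.Orth l) (h : SameRay (orthMap φ y) (orthMap ψ z)) :
    ∃ (j : ICone) (α : j ⟶ k) (β : j ⟶ l) (w : Fan.Orth j),
      α ≫ φ = β ≫ ψ ∧ orthMap α w = y ∧ SameRay z (orthMap β w) := by
  obtain ⟨c, hc, he⟩ := h
  let z' : Fan.Orth l := ⟨c • z.1, fun i => mul_nonneg hc.le (z.2.1 i), smul_ne_zero hc.ne' z.2.2⟩
  obtain ⟨j, α, β, w, hcomp, hα, hβ⟩ := exists_common φ.toLin ψ.toLin φ.injective ψ.injective y z'
    (by show toReal _ y.1 = toReal _ (c • z.1); rw [map_smul]; exact he)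
  refine ⟨j, α, β, w, ICone.Hom.ext hcomp, hα, ?_⟩
  rw [hβ]
  exact SameRay.symm ⟨c, hc, rfl⟩

theorem Common.trans {p q r : Fan.Pt F} (h : Common p q) (h' : Common q r) : Common p r := by
  obtain ⟨k, φ₁, φ₂, y, he, h1, h2⟩ := h
  obtain ⟨l, ψ₂, ψ₃, z, he', h2', h3⟩ := h'
  obtain ⟨j, α, β, w, hc, hα, hβ⟩ := exists_common_subcone φ₂ ψ₂ y z (h2.symm.trans h2')
  refine ⟨j, α ≫ φ₁, β ≫ ψ₃, w, ?_, ?_, ?_⟩
  · simp only [op_comp, FunctorToTypes.map_comp_apply, he, ← he']
    rw [← FunctorToTypes.map_comp_apply, ← FunctorToTypes.map_comp_apply, ← op_comp, ← op_comp, hc]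
  · rw [orthMap_comp, hα]
    exact h1
  · rw [orthMap_comp]
    exact h3.trans (hβ.map ψ₃)

theorem mk_eq_iff {n m : ICone} (ξ : F.obj (op n)) (v : Fan.Orth n) (ξ' : F.obj (op m))
    (w : Fan.Orth m) :
    Fan.P.mk ξ v = Fan.P.mk ξ' w ↔
      ∃ (k : ICone) (α : k ⟶ n) (β : k ⟶ m) (y : Fan.Orth k),
        F.map α.op ξ = F.map β.op ξ' ∧ SameRay v (orthMap α y) ∧ SameRay w (orthMap β y) := by
  constructor
  · intro h
    have h' := Quot.eqvGen_exact h
    have key : ∀ p q : Fan.Pt F, Relation.EqvGen (Fan.Rel F) p q → Common p q := fun p q hpq => by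
      induction hpq with
      | rel p q hpq => exact Common.of_rel hpq
      | refl p => exact Common.refl p
      | symm p q _ ih => exact ih.symm
      | trans p q r _ _ ih ih' => exact ih.trans ih'
    exact key _ _ h'
  · rintro ⟨k, α, β, y, he, h1, h2⟩
    rw [← mk_sameRay ξ h1, ← mk_sameRay ξ' h2, ← mk_map, ← mk_map, he]

theorem coneMap_app {n k : ICone} (σ : F.obj (op n))
    (a : (uliftYoneda.{u}.obj n).obj (op k)) :
    (Fan.coneMap σ).app (op k) a = F.map a.down.op σ := rfl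

/-- The identity cone of a representable fan. -/
def idCone (n : ICone) : (uliftYoneda.{u}.obj n).obj (op n) := ULift.up (𝟙 n)

theorem map_coneMap_idCone {n : ICone} (σ : F.obj (op n)) (v : Fan.Orth n) :
    Fan.P.map (Fan.coneMap σ) (Fan.P.mk (idCone n) v) = Fan.P.mk σ v := by
  rw [map_mk, coneMap_app]
  simp [idCone]

/-- Equal points of a representable fan give the same ray. -/
theorem sameRay_of_mk_eq {n k m : ICone} {a : (uliftYoneda.{u}.obj n).obj (op k)}
    {b : (uliftYoneda.{u}.obj n).obj (op m)} {v : Fan.Orth k} {w : Fan.Orth m}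
    (h : Fan.P.mk (F := uliftYoneda.{u}.obj n) a v = Fan.P.mk b w) :
    SameRay (orthMap a.down v) (orthMap b.down w) := by
  obtain ⟨j, α, β, y, he, h1, h2⟩ := (mk_eq_iff _ _ _ _).mp h
  have he' : α ≫ a.down = β ≫ b.down := congr_arg ULift.down he
  refine (h1.map _).trans (SameRay.trans ?_ (h2.map _).symm)
  rw [← orthMap_comp, ← orthMap_comp, he']
  exact .refl _

theorem mk_idCone {n k : ICone} (a : (uliftYoneda.{u}.obj n).obj (op k)) (v : Fan.Orth k) :
    Fan.P.mk (F := uliftYoneda.{u}.obj n) a v = Fan.P.mk (idCone n) (orthMap a.down v) := by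
  rw [← mk_map a.down (idCone n) v]
  congr 1

theorem isBounded_representable (n : ICone) : Fan.IsBounded (uliftYoneda.{u}.obj n : Instab.Fan.{u}) := by
  refine ⟨{⟨n, idCone n⟩}, fun x => ⟨_, Finset.mem_singleton_self _, ?_⟩⟩
  obtain ⟨k, a, v, rfl⟩ := exists_mk x
  exact ⟨_, (mk_idCone a v).symm⟩

section Pullback

variable (f : F ⟶ G) (g : F' ⟶ G)

/-- The cone of a fibre product given by a compatible pair of cones. -/
noncomputable def pbElem {k : ICone} (a : F.obj (op k)) (b : F'.obj (op k))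
    (h : f.app _ a = g.app _ b) : (Limits.pullback f g).obj (op k) :=
  uliftYonedaEquiv.{u} (Limits.pullback.lift (uliftYonedaEquiv.{u}.symm a)
    (uliftYonedaEquiv.{u}.symm b) (uliftYonedaEquiv.{u}.injective (by
      simp only [uliftYonedaEquiv_comp, Equiv.apply_symm_apply, h])))

theorem fst_pbElem {k : ICone} (a : F.obj (op k)) (b : F'.obj (op k))
    (h : f.app _ a = g.app _ b) : (Limits.pullback.fst f g).app _ (pbElem f g a b h) = a := by
  rw [pbElem, ← uliftYonedaEquiv_comp, Limits.pullback.lift_fst, Equiv.apply_symm_apply]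

theorem snd_pbElem {k : ICone} (a : F.obj (op k)) (b : F'.obj (op k))
    (h : f.app _ a = g.app _ b) : (Limits.pullback.snd f g).app _ (pbElem f g a b h) = b := by
  rw [pbElem, ← uliftYonedaEquiv_comp, Limits.pullback.lift_snd, Equiv.apply_symm_apply]

theorem pullback_app_condition {k : ICone} (e : (Limits.pullback f g).obj (op k)) :
    f.app _ ((Limits.pullback.fst f g).app _ e) = g.app _ ((Limits.pullback.snd f g).app _ e) :=
  (NatTrans.comp_app_apply _ _ _ _).symm.trans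
    ((congr_arg (fun η => (η : Limits.pullback f g ⟶ G).app _ e) Limits.pullback.condition).trans
      (NatTrans.comp_app_apply _ _ _ _))

theorem exists_pullback_point (x : Fan.P F) (x' : Fan.P F') (h : Fan.P.map f x = Fan.P.map g x') :
    ∃ y : Fan.P (Limits.pullback f g),
      Fan.P.map (Limits.pullback.fst f g) y = x ∧ Fan.P.map (Limits.pullback.snd f g) y = x' := by
  obtain ⟨n, ξ, v, rfl⟩ := exists_mk x
  obtain ⟨m, ξ', w, rfl⟩ := exists_mk x'
  obtain ⟨k, α, β, y, he, h1, h2⟩ := (mk_eq_iff _ _ _ _).mp h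
  have hab : f.app _ (F.map α.op ξ) = g.app _ (F'.map β.op ξ') := by
    rw [NatTrans.naturality_apply f, NatTrans.naturality_apply g]
    exact he
  refine ⟨Fan.P.mk (pbElem f g _ _ hab) y, ?_, ?_⟩
  · rw [map_mk, fst_pbElem, mk_map, mk_sameRay ξ h1]
  · rw [map_mk, snd_pbElem, mk_map, mk_sameRay ξ' h2]

theorem map_pullback_condition (y : Fan.P (Limits.pullback f g)) :
    Fan.P.map f (Fan.P.map (Limits.pullback.fst f g) y) =
      Fan.P.map g (Fan.P.map (Limits.pullback.snd f g) y) := by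
  rw [map_map, map_map, Limits.pullback.condition]

/-- Finitely many pairs of cones covering a bounded fibre product. -/
theorem exists_pairs (hb : Fan.IsBounded (Limits.pullback f g)) :
    ∃ s : Finset (Σ k : ICone, F.obj (op k) × F'.obj (op k)),
      (∀ e ∈ s, f.app _ e.2.1 = g.app _ e.2.2) ∧
      ∀ x x', Fan.P.map f x = Fan.P.map g x' →
        ∃ e ∈ s, ∃ y : Fan.Orth e.1, x = Fan.P.mk e.2.1 y ∧ x' = Fan.P.mk e.2.2 y := by
  classical
  obtain ⟨t, ht⟩ := hb
  refine ⟨t.image fun e =>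
    ⟨e.1, (Limits.pullback.fst f g).app _ e.2, (Limits.pullback.snd f g).app _ e.2⟩, ?_, ?_⟩
  · intro e he
    obtain ⟨e₀, -, rfl⟩ := Finset.mem_image.mp he
    exact pullback_app_condition f g e₀.2
  · intro x x' h
    obtain ⟨p, hp, hp'⟩ := exists_pullback_point f g x x' h
    obtain ⟨e, he, y, rfl⟩ := ht p
    exact ⟨_, Finset.mem_image_of_mem _ he, y, hp.symm, hp'.symm⟩

end Pullback

/-- A bounded map: over each cone, finitely many lifted sub-cones cover the inverse image. -/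
theorem exists_lifts {ψ : F ⟶ G} (hψ : Fan.IsBoundedMap ψ) {n : ICone} (ξ : G.obj (op n)) :
    ∃ s : Finset (Σ k : ICone, F.obj (op k) × (k ⟶ n)),
      (∀ e ∈ s, ψ.app _ e.2.1 = G.map e.2.2.op ξ) ∧
      ∀ x v, Fan.P.map ψ x = Fan.P.mk ξ v →
        ∃ e ∈ s, ∃ y : Fan.Orth e.1, x = Fan.P.mk e.2.1 y ∧ SameRay v (orthMap e.2.2 y) := by
  classical
  obtain ⟨s, hs, hs'⟩ := exists_pairs ψ (Fan.coneMap ξ) (hψ n ξ)
  refine ⟨s.image fun e => ⟨e.1, e.2.1, e.2.2.down⟩, ?_, ?_⟩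
  · intro e he
    obtain ⟨e₀, he₀, rfl⟩ := Finset.mem_image.mp he
    exact (hs e₀ he₀).trans (coneMap_app ξ _)
  · intro x v h
    obtain ⟨e, he, y, hx, hv⟩ := hs' x (Fan.P.mk (idCone n) v) (h.trans (map_coneMap_idCone ξ v).symm)
    refine ⟨_, Finset.mem_image_of_mem _ he, y, hx, ?_⟩
    have := sameRay_of_mk_eq hv
    rwa [show (idCone n).down = 𝟙 n from rfl, orthMap_id] at this

/-- A quasi-separated fan: the overlap of two cones consists of finitely many sub-cones. -/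
theorem exists_overlaps (hF : F.IsQuasiSeparated) {n m : ICone} (ξ : F.obj (op n))
    (ξ' : F.obj (op m)) :
    ∃ s : Finset (Σ k : ICone, (k ⟶ n) × (k ⟶ m)),
      (∀ e ∈ s, F.map e.2.1.op ξ = F.map e.2.2.op ξ') ∧
      ∀ v w, Fan.P.mk ξ v = Fan.P.mk ξ' w →
        ∃ e ∈ s, ∃ y : Fan.Orth e.1, SameRay v (orthMap e.2.1 y) ∧ SameRay w (orthMap e.2.2 y) := by
  classical
  obtain ⟨s, hs, hs'⟩ := exists_pairs (Fan.coneMap ξ) (Fan.coneMap ξ') (hF n m ξ ξ')
  refine ⟨s.image fun e => ⟨e.1, e.2.1.down, e.2.2.down⟩, ?_, ?_⟩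
  · intro e he
    obtain ⟨e₀, he₀, rfl⟩ := Finset.mem_image.mp he
    exact ((coneMap_app ξ _).symm.trans (hs e₀ he₀)).trans (coneMap_app ξ' _)
  · intro v w h
    obtain ⟨e, he, y, hv, hw⟩ := hs' (Fan.P.mk (idCone n) v) (Fan.P.mk (idCone m) w)
      (by rw [map_coneMap_idCone, map_coneMap_idCone, h])
    refine ⟨_, Finset.mem_image_of_mem _ he, y, ?_, ?_⟩
    · have := sameRay_of_mk_eq hv
      rwa [show (idCone n).down = 𝟙 n from rfl, orthMap_id] at this
    · have := sameRay_of_mk_eq hw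
      rwa [show (idCone m).down = 𝟙 m from rfl, orthMap_id] at this

/-! ## Topology of the realization -/

theorem continuous_mk {n : ICone} (ξ : F.obj (op n)) : Continuous (Fan.P.mk ξ) :=
  continuous_quot_mk.comp
    (continuous_sigmaMk (σ := fun e : (Σ n : ICone, F.obj (op n)) => Fan.Orth e.1) (i := ⟨n, ξ⟩))

theorem isClosed_iff (S : Set (Fan.P F)) :
    IsClosed S ↔ ∀ (n : ICone) (ξ : F.obj (op n)), IsClosed (Fan.P.mk ξ ⁻¹' S) := by
  constructor
  · exact fun h n ξ => h.preimage (continuous_mk ξ)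
  · intro h
    refine isQuotientMap_quot_mk.isClosed_preimage.mp ?_
    exact isClosed_sigma_iff.mpr fun e => h e.1 e.2

theorem isOpen_iff (S : Set (Fan.P F)) :
    IsOpen S ↔ ∀ (n : ICone) (ξ : F.obj (op n)), IsOpen (Fan.P.mk ξ ⁻¹' S) := by
  simp only [← isClosed_compl_iff, isClosed_iff Sᶜ, Set.preimage_compl]

theorem continuous_map (f : F ⟶ G) : Continuous (Fan.P.map f) :=
  continuous_iff_isClosed.mpr fun S hS => (isClosed_iff _).mpr fun n ξ => by
    rw [← Set.preimage_comp]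
    exact hS.preimage (continuous_mk (f.app _ ξ))

theorem cell_eq_image {n : ICone} (ξ : F.obj (op n)) :
    Fan.P.cell ξ = Fan.P.mk ξ '' simplex n := by
  refine Set.Subset.antisymm ?_ (Set.image_subset_range _ _)
  rintro _ ⟨v, rfl⟩
  exact ⟨normalize v, total_normalize v, mk_normalize ξ v⟩

theorem isCompact_cell {n : ICone} (ξ : F.obj (op n)) : IsCompact (Fan.P.cell ξ) := by
  rw [cell_eq_image]
  exact (isCompact_simplex n).image (continuous_mk ξ)

/-- The rays of a closed saturated subset form a closed set after applying a cone morphism. -/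
theorem isClosed_rays_image {k n : ICone} (φ : k ⟶ n) {D : Set (Fan.Orth k)} (hD : IsClosed D)
    (hD' : ∀ v w, v ∈ D → SameRay w v → w ∈ D) :
    IsClosed {v | ∃ y ∈ D, SameRay v (orthMap φ y)} := by
  convert (isClosedEmbedding_orthMap φ).isClosedMap _ hD using 1
  ext v
  constructor
  · rintro ⟨y, hy, c, hc, he⟩
    refine ⟨⟨c • y.1, fun i => mul_nonneg hc.le (y.2.1 i), smul_ne_zero hc.ne' y.2.2⟩,
      hD' _ _ hy ⟨c, hc, rfl⟩, Subtype.ext ?_⟩
    show toReal φ.toLin (c • y.1) = v.1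
    rw [map_smul]
    exact he.symm
  · rintro ⟨y, hy, rfl⟩
    exact ⟨y, hy, .refl _⟩

theorem isClosed_biUnion_rays {n : ICone} {α : Type*} (s : Finset α) (K : α → ICone)
    (φ : ∀ a, K a ⟶ n) (D : ∀ a, Set (Fan.Orth (K a))) (hD : ∀ a, IsClosed (D a))
    (hD' : ∀ a v w, v ∈ D a → SameRay w v → w ∈ D a) :
    IsClosed {v | ∃ a ∈ s, ∃ y ∈ D a, SameRay v (orthMap (φ a) y)} := by
  convert s.finite_toSet.isClosed_biUnion fun a _ => isClosed_rays_image (φ a) (hD a) (hD' a) using 1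
  ext v
  simp

/-- A saturated closed subset of a simplex has closed image in a quasi-separated fan. -/
theorem isClosed_image_mk (hF : F.IsQuasiSeparated) {n : ICone} (ξ : F.obj (op n))
    {S : Set (Fan.Orth n)} (hS : IsClosed S) (hS' : ∀ v w, v ∈ S → SameRay w v → w ∈ S) :
    IsClosed (Fan.P.mk ξ '' S) := by
  refine (isClosed_iff _).mpr fun m ξ' => ?_
  obtain ⟨s, hs, hs'⟩ := exists_overlaps hF ξ ξ'
  convert isClosed_biUnion_rays s (fun e => e.1) (fun e => e.2.2) (fun e => orthMap e.2.1 ⁻¹' S)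
    (fun e => hS.preimage (continuous_orthMap _))
    (fun e v w hv hw => hS' _ _ hv (hw.map _)) using 1
  ext w
  constructor
  · rintro ⟨v, hv, he⟩
    obtain ⟨e, hes, y, h1, h2⟩ := hs' v w he
    exact ⟨e, hes, y, hS' _ _ hv h1.symm, h2⟩
  · rintro ⟨e, hes, y, hy, h2⟩
    exact ⟨_, hy, by rw [← mk_map, hs e hes, mk_map, mk_sameRay ξ' h2]⟩

theorem isClosed_cell (hF : F.IsQuasiSeparated) {n : ICone} (ξ : F.obj (op n)) :
    IsClosed (Fan.P.cell ξ) := by
  rw [Fan.P.cell, ← Set.image_univ]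
  exact isClosed_image_mk hF ξ isClosed_univ fun _ _ _ _ => trivial

theorem isClosed_point (hF : F.IsQuasiSeparated) (x : Fan.P F) : IsClosed ({x} : Set (Fan.P F)) := by
  obtain ⟨n, ξ, v, rfl⟩ := exists_mk x
  convert isClosed_image_mk hF ξ (S := {w | SameRay w v})
    (isClosed_sameRay continuous_id continuous_const) (fun a b ha hb => hb.trans ha) using 1
  ext z
  constructor
  · rintro rfl; exact ⟨v, .refl v, rfl⟩
  · rintro ⟨w, hw, rfl⟩; exact (mk_sameRay ξ hw).symm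

theorem isClosed_iff_cells (hF : F.IsQuasiSeparated) (S : Set (Fan.P F)) :
    IsClosed S ↔ ∀ (n : ICone) (ξ : F.obj (op n)), IsClosed (S ∩ Fan.P.cell ξ) := by
  refine ⟨fun h n ξ => h.inter (isClosed_cell hF ξ), fun h => (isClosed_iff S).mpr fun n ξ => ?_⟩
  convert (h n ξ).preimage (continuous_mk ξ) using 1
  ext v
  simp [Fan.P.cell]

/-- The ray of an integral point is a rational point. -/
theorem isRational_mk {n : ICone} (ξ : F.obj (op n)) {v : Fan.Orth n} (hv : IsIntegral v) :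
    (Fan.P.mk ξ v).IsRational := by
  obtain ⟨z, hz⟩ := hv
  have hz0 : ∀ i, 0 ≤ z i := fun i => by
    have := v.2.1 i
    rw [hz, castVec_apply] at this
    exact_mod_cast this
  have hzne : z ≠ 0 := fun h => v.2.2 (by rw [hz, h]; funext i; simp)
  let ρ : Fan.one ⟶ n := ⟨(LinearMap.proj ⟨0, Fan.one.dim.pos⟩).smulRight z, fun a b h => by
      obtain ⟨i, hi⟩ := Function.ne_iff.mp hzne
      have := congr_fun h i
      funext t
      rw [Subsingleton.elim (α := Fin 1) t ⟨0, Nat.one_pos⟩]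
      exact mul_right_cancel₀ hi this,
    fun a ha j => by
      show 0 ≤ a ⟨0, Fan.one.dim.pos⟩ * z j
      exact mul_nonneg (ha _) (hz0 j)⟩
  refine ⟨F.map ρ.op ξ, ?_⟩
  rw [mk_map]
  congr 1
  apply Subtype.ext
  show v.1 = toReal ρ.toLin (fun _ => (1 : ℝ))
  have h1 : (fun _ => (1 : ℝ)) = castVec (fun _ : Fin (Fan.one.dim : ℕ) => (1 : ℤ)) := by
    funext; simp
  rw [h1, toReal_castVec, hz]
  funext j
  show (z j : ℝ) = (((1 : ℤ) * z j : ℤ) : ℝ)
  rw [one_mul]

theorem exists_isRational_mem {n : ICone} (ξ : F.obj (op n)) {W : Set (Fan.P F)}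
    (hW : IsOpen (Fan.P.mk ξ ⁻¹' W)) (hne : (Fan.P.mk ξ ⁻¹' W).Nonempty) :
    ∃ v, Fan.P.mk ξ v ∈ W ∧ (Fan.P.mk ξ v).IsRational := by
  by_contra h
  push Not at h
  obtain ⟨v, hv⟩ := hne
  exact mem_of_forall_isIntegral hW.isClosed_compl
    (fun a b ha hb (hb' : Fan.P.mk ξ b ∈ W) => ha (show Fan.P.mk ξ a ∈ W by rwa [mk_sameRay ξ hb]))
    (fun a ha ha' => h a ha' (isRational_mk ξ ha)) v hv

end Groth.Agent.L13.Fan
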