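import Groth.Prelude.Def_W4c6instabfans3Fan
import Groth.Agent.L13.Fan.Cone
import Mathlib.Topology.Algebra.Module.FiniteDimension
import Mathlib.Analysis.SpecificLimits.Basic
import Mathlib.Analysis.Normed.Module.FiniteDimension
import Mathlib.Analysis.Convex.StdSimplex
import Mathlib.LinearAlgebra.LinearIndependent.Defs
import Mathlib.LinearAlgebra.StdBasis

/-!
# The real action of cone morphisms
-/

open CategoryTheory Filter Topology Instab

namespace Groth.Agent.L13.Fan

variable {ι κ μ : Type*} [Fintype ι] [DecidableEq ι]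

/-- An integer vector viewed as a real vector. -/
def castVec (z : ι → ℤ) : ι → ℝ := fun i => z i

@[simp] theorem castVec_apply (z : ι → ℤ) (i : ι) : castVec z i = z i := rfl

/-- The real extension of an integral linear map. -/
noncomputable def toReal (A : (ι → ℤ) →ₗ[ℤ] (κ → ℤ)) : (ι → ℝ) →ₗ[ℝ] (κ → ℝ) :=
  Fintype.linearCombination ℝ fun i => fun j => (A (Pi.single i 1) j : ℝ)

theorem toReal_apply (A : (ι → ℤ) →ₗ[ℤ] (κ → ℤ)) (v : ι → ℝ) (j : κ) :
    toReal A v j = ∑ i, (A (Pi.single i 1) j : ℝ) * v i := by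
  simp [toReal, Fintype.linearCombination_apply, mul_comm]

theorem apply_eq_sum (A : (ι → ℤ) →ₗ[ℤ] (κ → ℤ)) (z : ι → ℤ) (j : κ) :
    A z j = ∑ i, A (Pi.single i 1) j * z i := by
  conv_lhs => rw [← (Pi.basisFun ℤ ι).sum_repr z, map_sum]
  simp only [map_smul, Finset.sum_apply, Pi.smul_apply, smul_eq_mul, Pi.basisFun_repr,
    Pi.basisFun_apply]
  exact Finset.sum_congr rfl fun i _ => mul_comm _ _

theorem toReal_castVec (A : (ι → ℤ) →ₗ[ℤ] (κ → ℤ)) (z : ι → ℤ) :
    toReal A (castVec z) = fun j => (A z j : ℝ) := by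
  funext j
  rw [toReal_apply, apply_eq_sum A z j]
  simp

theorem toReal_comp [Fintype κ] [DecidableEq κ] (B : (κ → ℤ) →ₗ[ℤ] (μ → ℤ))
    (A : (ι → ℤ) →ₗ[ℤ] (κ → ℤ)) : toReal (B.comp A) = (toReal B).comp (toReal A) := by
  refine LinearMap.ext fun v => funext fun j => ?_
  simp only [LinearMap.comp_apply, toReal_apply, Finset.mul_sum]
  rw [Finset.sum_comm]
  refine Finset.sum_congr rfl fun i _ => ?_
  rw [apply_eq_sum B]
  push_cast
  rw [Finset.sum_mul]
  exact Finset.sum_congr rfl fun _ _ => by ring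

theorem toReal_id (v : ι → ℝ) : toReal (LinearMap.id : (ι → ℤ) →ₗ[ℤ] (ι → ℤ)) v = v := by
  funext j
  simp [toReal_apply, Pi.single_apply, apply_ite (fun x : ℤ => (x : ℝ))]

theorem toReal_injective [Finite κ] {A : (ι → ℤ) →ₗ[ℤ] (κ → ℤ)} (hA : Function.Injective A) :
    Function.Injective (toReal A) := by
  rw [toReal, ← linearIndependent_iff_injective_fintypeLinearCombination]
  have h := ((Pi.basisFun ℤ ι).linearIndependent.map' A (LinearMap.ker_eq_bot.mpr hA))
  have h' := (linearIndependent_algebraMap_comp_iff (R := ℤ) (S := ℝ)).mpr h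
  simpa [Function.comp_def] using h'

theorem toReal_ne_zero [Finite κ] {A : (ι → ℤ) →ₗ[ℤ] (κ → ℤ)} (hA : Function.Injective A)
    {v : ι → ℝ} (hv : v ≠ 0) : toReal A v ≠ 0 := fun h =>
  hv (toReal_injective hA (h.trans (map_zero _).symm))

theorem realMap_eq {k n : ICone} (φ : k ⟶ n) (v : Fin k.dim → ℝ) :
    φ.realMap v = toReal φ.toLin v := by
  funext j
  rw [toReal_apply]
  rfl

theorem toReal_nonneg {k n : ICone} (φ : k ⟶ n) {v : Fin k.dim → ℝ} (hv : ∀ i, 0 ≤ v i) (j : Fin n.dim) :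
    0 ≤ toReal φ.toLin v j := by
  rw [toReal_apply]
  refine Finset.sum_nonneg fun i _ => mul_nonneg ?_ (hv i)
  exact_mod_cast φ.nonneg (Pi.single i 1) (fun l => by by_cases h : l = i <;> simp [h]) j

/-- The action of a cone morphism on punctured orthants. -/
noncomputable def orthMap {k n : ICone} (φ : k ⟶ n) (v : Fan.Orth k) : Fan.Orth n :=
  ⟨toReal φ.toLin v.1, fun j => toReal_nonneg φ v.2.1 j, toReal_ne_zero φ.injective v.2.2⟩

theorem orthMap_val {k n : ICone} (φ : k ⟶ n) (v : Fan.Orth k) :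
    (orthMap φ v).1 = φ.realMap v.1 := (realMap_eq φ v.1).symm

theorem orthMap_id {n : ICone} (v : Fan.Orth n) : orthMap (𝟙 n) v = v :=
  Subtype.ext (toReal_id v.1)

theorem orthMap_comp {k n m : ICone} (φ : k ⟶ n) (ψ : n ⟶ m) (v : Fan.Orth k) :
    orthMap (φ ≫ ψ) v = orthMap ψ (orthMap φ v) := by
  apply Subtype.ext
  show toReal (ψ.toLin.comp φ.toLin) v.1 = _
  rw [toReal_comp]
  rfl

theorem isClosedEmbedding_orthMap {k n : ICone} (φ : k ⟶ n) : IsClosedEmbedding (orthMap φ) := by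
  have hL : IsClosedEmbedding (toReal φ.toLin) :=
    LinearMap.isClosedEmbedding_of_injective (LinearMap.ker_eq_bot.mpr (toReal_injective φ.injective))
  refine ⟨?_, ?_⟩
  · refine Topology.IsEmbedding.of_comp (g := Subtype.val) ?_ continuous_subtype_val
      (hL.isEmbedding.comp Topology.IsEmbedding.subtypeVal)
    exact Continuous.subtype_mk (hL.continuous.comp continuous_subtype_val) _
  · have h : IsClosed (toReal φ.toLin '' {v | ∀ i, 0 ≤ v i}) := by
      refine hL.isClosedMap _ ?_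
      rw [show {v : Fin k.dim → ℝ | ∀ i, 0 ≤ v i} = ⋂ i, {v | 0 ≤ v i} by ext; simp]
      exact isClosed_iInter fun i => isClosed_le continuous_const (continuous_apply i)
    refine isClosed_induced_iff.mpr ⟨_, h, ?_⟩
    ext w
    constructor
    · rintro ⟨v, hv, he⟩
      refine ⟨⟨v, hv, fun h0 => w.2.2 ?_⟩, Subtype.ext he⟩
      subst h0
      simpa using he.symm
    · rintro ⟨v, rfl⟩
      exact ⟨v.1, v.2.1, rfl⟩

theorem continuous_orthMap {k n : ICone} (φ : k ⟶ n) : Continuous (orthMap φ) :=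
  (isClosedEmbedding_orthMap φ).continuous

/-- Two points of an orthant lie on the same ray. -/
def SameRay {n : ICone} (v w : Fan.Orth n) : Prop := ∃ c : ℝ, 0 < c ∧ v.1 = c • w.1

theorem SameRay.refl {n : ICone} (v : Fan.Orth n) : SameRay v v := ⟨1, one_pos, (one_smul _ _).symm⟩

theorem SameRay.symm {n : ICone} {v w : Fan.Orth n} (h : SameRay v w) : SameRay w v := by
  obtain ⟨c, hc, he⟩ := h
  exact ⟨c⁻¹, inv_pos.mpr hc, by rw [he, smul_smul, inv_mul_cancel₀ hc.ne', one_smul]⟩

theorem SameRay.trans {n : ICone} {u v w : Fan.Orth n} (h : SameRay u v) (h' : SameRay v w) :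
    SameRay u w := by
  obtain ⟨c, hc, he⟩ := h
  obtain ⟨d, hd, he'⟩ := h'
  exact ⟨c * d, mul_pos hc hd, by rw [he, he', smul_smul]⟩

theorem SameRay.map {k n : ICone} (φ : k ⟶ n) {v w : Fan.Orth k} (h : SameRay v w) :
    SameRay (orthMap φ v) (orthMap φ w) := by
  obtain ⟨c, hc, he⟩ := h
  exact ⟨c, hc, by show toReal _ v.1 = c • toReal _ w.1; rw [he, map_smul]⟩

theorem SameRay.of_map {k n : ICone} (φ : k ⟶ n) {v w : Fan.Orth k}
    (h : SameRay (orthMap φ v) (orthMap φ w)) : SameRay v w := by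
  obtain ⟨c, hc, he⟩ := h
  refine ⟨c, hc, toReal_injective φ.injective ?_⟩
  rw [map_smul]
  exact he

/-- The coordinate sum. -/
def total {n : ICone} (v : Fan.Orth n) : ℝ := ∑ i, v.1 i

theorem total_pos {n : ICone} (v : Fan.Orth n) : 0 < total v := by
  obtain ⟨i, hi⟩ := Function.ne_iff.mp v.2.2
  exact Finset.sum_pos' (fun j _ => v.2.1 j)
    ⟨i, Finset.mem_univ _, lt_of_le_of_ne (v.2.1 i) (Ne.symm hi)⟩

theorem continuous_total {n : ICone} : Continuous (total (n := n)) :=
  continuous_finset_sum _ fun i _ => (continuous_apply i).comp continuous_subtype_val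

/-- The representative of a ray with coordinate sum one. -/
noncomputable def normalize {n : ICone} (v : Fan.Orth n) : Fan.Orth n :=
  ⟨(total v)⁻¹ • v.1, fun i => mul_nonneg (inv_nonneg.mpr (total_pos v).le) (v.2.1 i),
    smul_ne_zero (inv_ne_zero (total_pos v).ne') v.2.2⟩

theorem sameRay_normalize {n : ICone} (v : Fan.Orth n) : SameRay (normalize v) v :=
  ⟨_, inv_pos.mpr (total_pos v), rfl⟩

theorem total_normalize {n : ICone} (v : Fan.Orth n) : total (normalize v) = 1 := by
  show ∑ i, (total v)⁻¹ * v.1 i = 1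
  rw [← Finset.mul_sum]
  exact inv_mul_cancel₀ (total_pos v).ne'

theorem continuous_normalize {n : ICone} : Continuous (normalize (n := n)) :=
  Continuous.subtype_mk ((continuous_total.inv₀ fun v => (total_pos v).ne').smul
    continuous_subtype_val) _

theorem sameRay_iff_normalize {n : ICone} (v w : Fan.Orth n) :
    SameRay v w ↔ normalize v = normalize w := by
  constructor
  · rintro ⟨c, hc, he⟩
    apply Subtype.ext
    show (∑ i, v.1 i)⁻¹ • v.1 = (∑ i, w.1 i)⁻¹ • w.1
    rw [he, smul_smul]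
    congr 1
    simp only [Pi.smul_apply, smul_eq_mul, ← Finset.mul_sum]
    field_simp
  · intro h
    exact (sameRay_normalize v).symm.trans (h ▸ sameRay_normalize w)

theorem isClosed_sameRay {n : ICone} {X : Type*} [TopologicalSpace X] {f g : X → Fan.Orth n}
    (hf : Continuous f) (hg : Continuous g) : IsClosed {x | SameRay (f x) (g x)} := by
  simp only [sameRay_iff_normalize]
  have : T2Space (Fan.Orth n) := inferInstanceAs (T2Space {v : Fin n.dim → ℝ // (∀ i, 0 ≤ v i) ∧ v ≠ 0})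
  exact isClosed_eq (continuous_normalize.comp hf) (continuous_normalize.comp hg)

/-- The unit simplex in a punctured orthant. -/
def simplex (n : ICone) : Set (Fan.Orth n) := {v | total v = 1}

theorem isCompact_simplex (n : ICone) : IsCompact (simplex n) := by
  refine (Subtype.isCompact_iff (p := fun v : Fin n.dim → ℝ => (∀ i, 0 ≤ v i) ∧ v ≠ 0)).mpr ?_
  convert isCompact_stdSimplex ℝ (Fin n.dim) using 1
  ext v
  constructor
  · rintro ⟨w, hw, rfl⟩
    exact ⟨w.2.1, hw⟩
  · rintro ⟨h0, h1⟩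
    refine ⟨⟨v, h0, fun h => ?_⟩, h1, rfl⟩
    simp [h] at h1

/-- The integer points of a punctured orthant. -/
def IsIntegral {n : ICone} (v : Fan.Orth n) : Prop := ∃ z : Fin n.dim → ℤ, v.1 = castVec z

/-- A closed set of rays containing all the integral points is everything. -/
theorem mem_of_forall_isIntegral {n : ICone} {D : Set (Fan.Orth n)} (hD : IsClosed D)
    (hD' : ∀ v w, v ∈ D → SameRay w v → w ∈ D) (h : ∀ v, IsIntegral v → v ∈ D) (v : Fan.Orth n) :
    v ∈ D := by
  obtain ⟨i₀, hi₀⟩ := Function.ne_iff.mp v.2.2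
  have hpos : 0 < v.1 i₀ := lt_of_le_of_ne (v.2.1 i₀) (Ne.symm hi₀)
  have hz : ∀ m : ℕ, castVec (fun i => (⌈v.1 i * (m + 1 : ℝ)⌉₊ : ℤ)) ≠ 0 := fun m h0 => by
    have h1 := congr_fun h0 i₀
    have h2 : 0 < ⌈v.1 i₀ * (m + 1 : ℝ)⌉₊ := Nat.ceil_pos.mpr (by positivity)
    simp only [castVec_apply, Pi.zero_apply, Int.cast_natCast, Nat.cast_eq_zero] at h1
    omega
  let u : ℕ → Fan.Orth n := fun m =>
    ⟨castVec (fun i => (⌈v.1 i * (m + 1 : ℝ)⌉₊ : ℤ)), fun i => by simp, hz m⟩
  let w : ℕ → Fan.Orth n := fun m =>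
    ⟨((m : ℝ) + 1)⁻¹ • (u m).1, fun i => mul_nonneg (by positivity) ((u m).2.1 i),
      smul_ne_zero (by positivity) (hz m)⟩
  refine hD.mem_of_tendsto (f := w) (b := atTop) ?_ (Eventually.of_forall fun m =>
    hD' _ _ (h (u m) ⟨_, rfl⟩) ⟨_, by positivity, rfl⟩)
  refine (Topology.IsInducing.subtypeVal (t := {v : Fin n.dim → ℝ | (∀ i, 0 ≤ v i) ∧ v ≠ 0})).tendsto_nhds_iff.mpr ?_
  rw [tendsto_pi_nhds]
  intro i
  have := (tendsto_nat_ceil_mul_div_atTop (R := ℝ) (v.2.1 i)).comp
    (tendsto_natCast_atTop_atTop.atTop_add (tendsto_const_nhds (x := (1 : ℝ))))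
  refine this.congr fun m => ?_
  simp [w, u, Function.comp_def, div_eq_inv_mul]

/-- Two injective integral maps with meeting real orthants admit a common sub-cone. -/
theorem exists_common {k l : ICone} {N : ℕ} (A : (Fin k.dim → ℤ) →ₗ[ℤ] (Fin N → ℤ))
    (B : (Fin l.dim → ℤ) →ₗ[ℤ] (Fin N → ℤ)) (hA : Function.Injective A) (hB : Function.Injective B)
    (y : Fan.Orth k) (z : Fan.Orth l) (h : toReal A y.1 = toReal B z.1) :
    ∃ (j : ICone) (α : j ⟶ k) (β : j ⟶ l) (w : Fan.Orth j),
      A.comp α.toLin = B.comp β.toLin ∧ orthMap α w = y ∧ orthMap β w = z := by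
  classical
  let a : Fin N → Fin k.dim ⊕ Fin l.dim → ℤ := fun t =>
    Sum.elim (fun i => A (Pi.single i 1) t) (fun i => -B (Pi.single i 1) t)
  obtain ⟨j, g, w, hg0, hgk, hw, hli, he⟩ := exists_indep_int_gens a (Sum.elim y.1 z.1)
    (by rintro (i | i); exacts [y.2.1 i, z.2.1 i]) (fun t => by
      have := congr_fun h t
      simp only [toReal_apply] at this
      simp [a, this])
  have hj : 0 < j := by
    refine Nat.pos_of_ne_zero fun h0 => y.2.2 (funext fun i => ?_)
    subst h0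
    simpa using congr_fun he (Sum.inl i)
  let G₁ : (Fin j → ℤ) →ₗ[ℤ] (Fin k.dim → ℤ) :=
    Fintype.linearCombination ℤ fun r => g r ∘ Sum.inl
  let G₂ : (Fin j → ℤ) →ₗ[ℤ] (Fin l.dim → ℤ) :=
    Fintype.linearCombination ℤ fun r => g r ∘ Sum.inr
  have hcomm : A.comp G₁ = B.comp G₂ := by
    refine LinearMap.ext fun x => ?_
    simp only [LinearMap.comp_apply, G₁, G₂, Fintype.linearCombination_apply, map_sum, map_smul]
    refine Finset.sum_congr rfl fun r _ => ?_
    congr 1
    funext t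
    have := hgk r t
    simp only [a, Fintype.sum_sum_type, Sum.elim_inl, Sum.elim_inr, neg_mul,
      Finset.sum_neg_distrib] at this
    rw [apply_eq_sum A, apply_eq_sum B]
    simp only [Function.comp_apply]
    linarith
  have hG : ∀ x, G₁ x = 0 → G₂ x = 0 → x = 0 := fun x h1 h2 => by
    refine funext (Fintype.linearIndependent_iff.mp hli x ?_)
    funext i
    rcases i with i | i
    · simpa [G₁, Fintype.linearCombination_apply, Finset.sum_apply] using congr_fun h1 i
    · simpa [G₂, Fintype.linearCombination_apply, Finset.sum_apply] using congr_fun h2 i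
  have hi₁ : Function.Injective G₁ := (injective_iff_map_eq_zero G₁).mpr fun x hx =>
    hG x hx (hB (by rw [map_zero, ← LinearMap.comp_apply, ← hcomm, LinearMap.comp_apply, hx, map_zero]))
  have hi₂ : Function.Injective G₂ := (injective_iff_map_eq_zero G₂).mpr fun x hx =>
    hG x (hA (by rw [map_zero, ← LinearMap.comp_apply, hcomm, LinearMap.comp_apply, hx, map_zero])) hx
  let α : (⟨⟨j, hj⟩⟩ : ICone) ⟶ k := ⟨G₁, hi₁, fun v hv i => by
    show 0 ≤ (∑ r : Fin j, v r • (g r ∘ Sum.inl)) i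
    rw [Finset.sum_apply]
    exact Finset.sum_nonneg fun r _ => mul_nonneg (hv r) (hg0 r _)⟩
  let β : (⟨⟨j, hj⟩⟩ : ICone) ⟶ l := ⟨G₂, hi₂, fun v hv i => by
    show 0 ≤ (∑ r : Fin j, v r • (g r ∘ Sum.inr)) i
    rw [Finset.sum_apply]
    exact Finset.sum_nonneg fun r _ => mul_nonneg (hv r) (hg0 r _)⟩
  refine ⟨_, α, β, ⟨w, fun r => (hw r).le, fun h0 => (hw ⟨0, hj⟩).ne' (congr_fun h0 _)⟩, hcomm,
    Subtype.ext (funext fun i => ?_), Subtype.ext (funext fun i => ?_)⟩
  · show toReal G₁ w i = y.1 i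
    rw [toReal_apply]
    simpa [G₁, Finset.sum_apply, mul_comm, Fintype.linearCombination_apply_single] using
      (congr_fun he (Sum.inl i)).symm
  · show toReal G₂ w i = z.1 i
    rw [toReal_apply]
    simpa [G₂, Finset.sum_apply, mul_comm, Fintype.linearCombination_apply_single] using
      (congr_fun he (Sum.inr i)).symm

end Groth.Agent.L13.Fan
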